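import Cfsg.Agent.Spectrum.SpEight.Torus

/-!
`Sp_8(q)` and `O_8^-(q)`, `q` even, have the same element orders.
-/

set_option autoImplicit false

namespace Cfsg.Agent.Spectrum.SpEight

open Module QuadraticMap Cfsg.Agent.Classical.Quad

universe u

theorem coprime_of_dvd_two {x y : ℕ} (hx : Odd x) (h : ∀ g, g ∣ x → g ∣ y → g ∣ 2) : Nat.Coprime x y := by
  have h1 := h _ (Nat.gcd_dvd_left x y) (Nat.gcd_dvd_right x y)
  rcases (Nat.dvd_prime Nat.prime_two).1 h1 with e | e
  · exact e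
  · exact absurd (e ▸ Nat.gcd_dvd_left x y) hx.not_two_dvd_nat

theorem coprime_mul_lcm {x y : ℕ} (h : Nat.Coprime x y) : x * y = Nat.lcm x y := h.lcm_eq_mul.symm

theorem pow_pm_coprime {q i j : ℕ} (hq : Even q) (hi : i ≠ 0) (hij : i ∣ j) (hj : j ≠ 0 := by norm_num) :
    Nat.Coprime (q ^ j + 1) (q ^ i - 1) := by
  refine coprime_of_dvd_two ((hq.pow_of_ne_zero hj).add_one) fun g hg hg' => ?_
  obtain ⟨c, rfl⟩ := hij
  have h1 : g ∣ q ^ (i * c) - 1 := by
    refine hg'.trans ?_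
    have := Nat.sub_dvd_pow_sub_pow (q ^ i) 1 c
    rwa [one_pow, ← pow_mul] at this
  have h2 := Nat.dvd_sub hg h1
  rcases Nat.eq_zero_or_pos (q ^ (i * c)) with h0 | h0
  · rw [h0] at hg
    exact hg.trans (one_dvd 2)
  · rwa [show q ^ (i * c) + 1 - (q ^ (i * c) - 1) = 2 by omega] at h2

variable {F : Type u} [Field F] [Fintype F] [CharP F 2]
  {a b : F} (hab : ∀ z₁ z₂ : F, z₁ ^ 2 + a * z₁ * z₂ + b * z₂ ^ 2 = 0 → z₁ = 0 ∧ z₂ = 0)

include hab

set_option maxHeartbeats 1000000 in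
/-- The twelve orders occur. -/
theorem realised : ∀ z ∈ S 4, HasO (hyp (binForm a b) 3) (val (Fintype.card F) z) := by
  haveI : Fact (Nat.Prime 2) := ⟨Nat.prime_two⟩
  set q := Fintype.card F with hq
  have hev : Even q := by
    obtain ⟨n, -, hn⟩ := FiniteField.card F 2
    rw [hq, hn]
    exact (even_two).pow_of_ne_zero n.ne_zero
  have hq2 : 2 ≤ q := Fintype.one_lt_card
  obtain ⟨d, hd⟩ := Nat.exists_eq_add_of_le' (show 1 ≤ q by omega)
  have hM0 : HasO (hyp (binForm a b) 0) (q + 1) := by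
    simpa using hasO_minus_torus (F := F) 2 hab 0
  have hM0' : HasO (hyp (binForm a b) 0) 2 := (hasO_minus_two hab).iso (iso_hyp_zero _)
  have hM1 : HasO (hyp (binForm a b) 1) (q ^ 2 + 1) := hasO_minus_torus (F := F) 2 hab 1
  have hM2 : HasO (hyp (binForm a b) 2) (q ^ 3 + 1) := hasO_minus_torus (F := F) 2 hab 2
  have hT2 : HasO (hyp (zeroForm F) 2) (q ^ 2 - 1) := hasO_plus_torus (F := F) 2 (by norm_num)
  have hT3 : HasO (hyp (zeroForm F) 3) (q ^ 3 - 1) := hasO_plus_torus (F := F) 2 (by norm_num)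
  have hT1 : HasO (hyp (zeroForm F) 1) (q - 1) := hasO_plus_sub
  have hT2' : HasO (hyp (zeroForm F) 2) (Nat.lcm (q + 1) 2) := by
    have h : HasO (binForm a b) (q + 1) := hM0.iso (iso_hyp_zero _).symm
    exact (h.prod (hasO_minus_two hab)).iso (iso_bin_bin hab)
  have hodd1 : Nat.Coprime (q + 1) 2 := Nat.coprime_two_right.2 hev.add_one
  have hodd2 : Nat.Coprime (q ^ 2 + 1) 2 := Nat.coprime_two_right.2 (hev.pow_of_ne_zero two_ne_zero).add_one
  have hodd3 : Nat.Coprime (q ^ 3 + 1) 2 := Nat.coprime_two_right.2 (hev.pow_of_ne_zero (by norm_num)).add_one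
  have hoddm : ∀ i ≠ 0, Nat.Coprime (q ^ i - 1) 2 := fun i hi => Nat.coprime_two_right.2
    (Nat.Even.sub_odd (Nat.one_le_pow _ _ (by omega)) (hev.pow_of_ne_zero hi) odd_one)
  have hc1 : Nat.Coprime (q + 1) (q - 1) := by simpa using pow_pm_coprime hev one_ne_zero (dvd_refl 1)
  have hc22 : Nat.Coprime (q ^ 2 + 1) (q ^ 2 - 1) := pow_pm_coprime hev two_ne_zero dvd_rfl
  have hc31 : Nat.Coprime (q ^ 3 + 1) (q - 1) := by simpa using pow_pm_coprime hev one_ne_zero (one_dvd 3)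
  have hc13 : Nat.Coprime (q ^ 3 - 1) (q + 1) := by
    have := (pow_pm_coprime hev (by norm_num : (3 : ℕ) ≠ 0) (dvd_refl 3)).symm
    exact this.coprime_dvd_right ⟨q * (q - 1) + 1, by rw [hd, Nat.add_sub_cancel]; ring⟩
  have hc21 : Nat.Coprime (q ^ 2 + 1) (q - 1) := by simpa using pow_pm_coprime hev one_ne_zero (one_dvd 2)
  have hs : q ^ 3 + 1 = (q + 1) * (q * (q - 1) + 1) := by rw [hd, Nat.add_sub_cancel]; ring
  have ht : q ^ 3 - 1 = (q - 1) * (q * (q + 1) + 1) := by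
    rw [hd, Nat.add_sub_cancel, Nat.sub_eq_iff_eq_add (Nat.one_le_pow _ _ (by omega))]; ring
  have hu : q ^ 2 - 1 = (q + 1) * (q - 1) := by
    rw [hd, Nat.add_sub_cancel, Nat.sub_eq_iff_eq_add (Nat.one_le_pow _ _ (by omega))]; ring
  have hh4 : (4 : ℕ) = 2 ^ 2 := rfl
  have hh8 : (8 : ℕ) = 2 ^ 3 := rfl
  have hm1 : Nat.Coprime (q - 1) 2 := by simpa using hoddm 1 one_ne_zero
  intro z hz
  simp only [S, List.mem_cons, List.not_mem_nil, or_false] at hz
  rcases hz with rfl | rfl | rfl | rfl | rfl | rfl | rfl | rfl | rfl | rfl | rfl | rfl <;>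
    simp only [val, base, Fin.prod_univ_succ, Finset.univ_eq_empty, Finset.prod_empty, Matrix.cons_val_zero,
      Matrix.cons_val_succ, Fin.succ_zero_eq_one, Matrix.cons_val_one, pow_zero, pow_one, one_mul, mul_one]
  · exact hasO_minus_torus (F := F) 2 hab 3
  · have h := hT2.join hM1
    rw [← coprime_mul_lcm hc22.symm, hu] at h
    rwa [← mul_assoc]
  · have h := hT1.join hM2
    rw [← coprime_mul_lcm hc31.symm, hs] at h
    rwa [← mul_assoc, mul_comm (q + 1), mul_assoc]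
  · have h := hT3.join hM0
    rw [← coprime_mul_lcm hc13, ht] at h
    rwa [← mul_assoc, mul_comm (q + 1), mul_assoc, mul_comm (q + 1), ← mul_assoc]
  · have h := hasO_plus_two.join hM2
    rw [← coprime_mul_lcm hodd3.symm, hs] at h
    exact h
  · have h := hT3.join hM0'
    rw [← coprime_mul_lcm (hoddm 3 (by norm_num)), ht] at h
    rwa [mul_comm 2]
  · have h := hT2'.join hM1
    rw [← coprime_mul_lcm hodd1, ← coprime_mul_lcm (Nat.Coprime.mul_left
      (coprime_of_dvd_two hev.add_one fun g hg hg' => ?_) hodd2.symm)] at h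
    · rwa [← mul_assoc, mul_comm 2]
    · have h1 : g ∣ q ^ 2 - 1 := by rw [hu]; exact hg.mul_right _
      have h2 := Nat.dvd_sub hg' h1
      rwa [show q ^ 2 + 1 - (q ^ 2 - 1) = 2 by have := Nat.one_le_pow 2 q (by omega); omega] at h2
  · have h := hT1.join (hasO_plus_two.join hM1)
    rw [← coprime_mul_lcm hodd2.symm, ← coprime_mul_lcm (Nat.Coprime.mul_right hm1 hc21.symm)] at h
    rwa [mul_left_comm]
  · have h := hasO_plus_four.join hM1
    rw [← coprime_mul_lcm (by rw [hh4]; exact (hodd2.pow_right 2).symm)] at h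
    exact h
  · have h := hasO_plus_four.join (hT1.join hM0)
    rw [← coprime_mul_lcm hc1.symm, ← coprime_mul_lcm (by
      rw [hh4]; exact ((hm1.mul_left hodd1).pow_right 2).symm)] at h
    rwa [mul_comm (q + 1)]
  · have h := hasO_plus_eight.join hM0
    rw [← coprime_mul_lcm (by rw [hh8]; exact (hodd1.pow_right 3).symm)] at h
    exact h
  · have h := hT1.join (hasO_minus_eight hab)
    rw [← coprime_mul_lcm (by rw [hh8]; exact hm1.pow_right 3)] at h
    rwa [mul_comm]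

/-- The two groups have the same element orders. -/
theorem range_eq : Set.range (orderOf : Cfsg.PSp 4 F → ℕ) =
    Set.range (orderOf : ↥(Cfsg.isometryGroup F (Cfsg.quadFormMinus 3 F a b)) → ℕ) := by
  classical
  haveI : Fact (Nat.Prime 2) := ⟨Nat.prime_two⟩
  have hcb : Subgroup.center (Matrix.symplecticGroup (Fin 4) F) = ⊥ := by
    refine (Subgroup.eq_bot_iff_forall _).2 fun A hA => ?_
    obtain ⟨c, hc, hA'⟩ := (center_iff (by norm_num) A).1 hA
    have h : (c + 1) * (c + 1) = 0 := by rw [CharTwo.add_mul_self, hc, one_mul, CharTwo.add_self_eq_zero]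
    obtain rfl := CharTwo.add_eq_zero.1 (mul_self_eq_zero.1 h)
    exact Subtype.ext (by rw [hA', one_smul]; rfl)
  let π := QuotientGroup.mk' (Subgroup.center (Matrix.symplecticGroup (Fin 4) F))
  have hπ : Function.Injective π := (MonoidHom.ker_eq_bot_iff _).1 (by rw [QuotientGroup.ker_mk', hcb])
  obtain ⟨e, he⟩ : ∃ e : (((Fin 3 ⊕ Fin 3) ⊕ Fin 2) → F) ≃ₗ[F] ((Fin 3 → F) × (Fin 3 → F)) × (F × F),
      ∀ x, hyp (binForm a b) 3 (e x) = Cfsg.quadFormMinus 3 F a b x := ⟨minusCoord 3, minusCoord_map a b 3⟩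
  obtain ⟨E⟩ : Nonempty (↥(Cfsg.isometryGroup F (Cfsg.quadFormMinus 3 F a b)) ≃* oG (hyp (binForm a b) 3)) := by
    have hfun : Cfsg.quadFormMinus 3 F a b = ⇑((hyp (binForm a b) 3).comp e.toLinearMap) :=
      funext fun x => (he x).symm
    rw [hfun]
    exact ⟨(oEquiv _).trans (oCongr e fun x => rfl)⟩
  have hnd := nondeg_hyp (nondeg_binForm hab) 3
  obtain ⟨φ, hφ⟩ := Cfsg.Agent.Classical.Embed.exists_hom_symplectic (F := F) (m := 4)
    (V := ((Fin 3 → F) × (Fin 3 → F)) × (F × F)) (by simp [Module.finrank_prod])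
    (polarBilin (hyp (binForm a b) 3))
    (fun x => by rw [polarBilin_apply_apply, polar_self', CharTwo.two_eq_zero, zero_mul])
    (fun x hx => hnd.1 x hx) (oG (hyp (binForm a b) 3)).subtype (Subgroup.subtype_injective _)
    (fun g x y => polar_eq_of_mem g.2 x y)
  ext N
  constructor
  · rintro ⟨x, rfl⟩
    obtain ⟨A, rfl⟩ := QuotientGroup.mk'_surjective (Subgroup.center (Matrix.symplecticGroup (Fin 4) F)) x
    rw [orderOf_injective π hπ A]
    obtain ⟨z, hz, hdvd⟩ := order_bound A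
    obtain ⟨g, hg⟩ := realised hab z hz
    obtain ⟨h, hh⟩ := exists_orderOf_eq_of_dvd (g := g) (by
      rw [hg]
      refine Finset.prod_ne_zero_iff.2 fun i _ => pow_ne_zero _ ?_
      have := Fintype.one_lt_card (α := F)
      fin_cases i <;> simp [base] <;> omega) (hg ▸ hdvd)
    exact ⟨E.symm h, by rw [MulEquiv.orderOf_eq, hh]⟩
  · rintro ⟨x, rfl⟩
    exact ⟨π (φ (E x)), by rw [orderOf_injective π hπ, orderOf_injective φ hφ, MulEquiv.orderOf_eq]⟩

end Cfsg.Agent.Spectrum.SpEight
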