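import Cfsg.Agent.Spectrum.PSp

/-!
In characteristic two every element of `Sp_8(q)` has order dividing one of twelve numbers.

The numbers are monomials in `2, q+1, q-1, q²+1, q²-q+1, q²+q+1, q⁴+1`, handled through their exponent vectors.
-/

set_option autoImplicit false

namespace Cfsg.Agent.Spectrum.SpEight

open Polynomial

/-- The seven bases. -/
def base (q : ℕ) : Fin 7 → ℕ := ![2, q + 1, q - 1, q ^ 2 + 1, q * (q - 1) + 1, q * (q + 1) + 1, q ^ 4 + 1]

/-- A monomial. -/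
def val (q : ℕ) (e : Fin 7 → ℕ) : ℕ := ∏ i, base q i ^ e i

theorem val_dvd (q : ℕ) {e e' : Fin 7 → ℕ} (h : e ≤ e') : val q e ∣ val q e' :=
  Finset.prod_dvd_prod_of_dvd _ _ fun i _ => pow_dvd_pow _ (h i)

/-- The power of two needed for multiplicity `a`. -/
def e2 (a : ℕ) : ℕ := if a ≤ 1 then 0 else if a ≤ 2 then 1 else if a ≤ 4 then 2 else 3

theorem le_two_pow_e2 {a : ℕ} (ha : a ≤ 8) : a ≤ 2 ^ e2 a := by
  unfold e2
  split_ifs <;> omega

/-- `q ^ l + 1` and `q ^ l - 1`. -/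
def tor : ℕ → List (Fin 7 → ℕ)
  | 1 => [![0, 1, 0, 0, 0, 0, 0], ![0, 0, 1, 0, 0, 0, 0]]
  | 2 => [![0, 0, 0, 1, 0, 0, 0], ![0, 1, 1, 0, 0, 0, 0]]
  | 3 => [![0, 1, 0, 0, 1, 0, 0], ![0, 0, 1, 0, 0, 1, 0]]
  | 4 => [![0, 0, 0, 0, 0, 0, 1], ![0, 1, 1, 1, 0, 0, 0]]
  | _ => []

/-- Bounds for one block. -/
def blk (l a : ℕ) : List (Fin 7 → ℕ) := (tor l).map fun e i => if i = 0 then e2 a else e i

/-- Bounds in half dimension `k`, no eigenvalue one. -/
def S : ℕ → List (Fin 7 → ℕ)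
  | 0 => [![0, 0, 0, 0, 0, 0, 0]]
  | 1 => [![0, 1, 0, 0, 0, 0, 0], ![0, 0, 1, 0, 0, 0, 0]]
  | 2 => [![0, 0, 0, 1, 0, 0, 0], ![0, 1, 1, 0, 0, 0, 0], ![1, 1, 0, 0, 0, 0, 0], ![1, 0, 1, 0, 0, 0, 0]]
  | 3 => [![0, 1, 0, 0, 1, 0, 0], ![0, 0, 1, 0, 0, 1, 0], ![0, 1, 0, 1, 0, 0, 0], ![0, 0, 1, 1, 0, 0, 0],
      ![2, 1, 0, 0, 0, 0, 0], ![2, 0, 1, 0, 0, 0, 0], ![1, 1, 1, 0, 0, 0, 0]]
  | 4 => [![0, 0, 0, 0, 0, 0, 1], ![0, 1, 1, 1, 0, 0, 0], ![0, 1, 1, 0, 1, 0, 0], ![0, 1, 1, 0, 0, 1, 0],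
      ![1, 1, 0, 0, 1, 0, 0], ![1, 0, 1, 0, 0, 1, 0], ![1, 1, 0, 1, 0, 0, 0], ![1, 0, 1, 1, 0, 0, 0],
      ![2, 0, 0, 1, 0, 0, 0], ![2, 1, 1, 0, 0, 0, 0], ![3, 1, 0, 0, 0, 0, 0], ![3, 0, 1, 0, 0, 0, 0]]
  | _ => []

set_option synthInstance.maxSize 2000 in
set_option synthInstance.maxHeartbeats 100000 in
set_option maxHeartbeats 1000000 in
set_option maxRecDepth 100000 in
theorem step : ∀ l < 5, ∀ a < 5, ∀ k < 5, 1 ≤ l → 1 ≤ a → l * a ≤ k →
    ∀ b ∈ blk l a, ∀ y ∈ S (k - l * a), ∃ z ∈ S k, (∀ i, b i ≤ z i) ∧ ∀ i, y i ≤ z i := by decide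

set_option synthInstance.maxSize 2000 in
set_option synthInstance.maxHeartbeats 100000 in
set_option maxHeartbeats 1000000 in
set_option maxRecDepth 100000 in
theorem final : ∀ w < 9, ∀ k < 5, w + 2 * k ≤ 8 → ∀ y ∈ S k,
    ∃ z ∈ S 4, e2 w ≤ z 0 ∧ ∀ i, y i ≤ z i := by decide

theorem val_tor_add (q : ℕ) (hq : 1 ≤ q) {l : ℕ} (h1 : 1 ≤ l) (h4 : l ≤ 4) :
    ∃ e ∈ tor l, e 0 = 0 ∧ val q e = q ^ l + 1 := by
  obtain ⟨d, rfl⟩ := Nat.exists_eq_add_of_le' hq
  interval_cases l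
  · exact ⟨_, List.mem_cons_self .., rfl, by simp [val, base, Fin.prod_univ_succ]⟩
  · exact ⟨_, List.mem_cons_self .., rfl, by simp [val, base, Fin.prod_univ_succ]⟩
  · exact ⟨_, List.mem_cons_self .., rfl, by simp [val, base, Fin.prod_univ_succ]; ring⟩
  · exact ⟨_, List.mem_cons_self .., rfl, by simp [val, base, Fin.prod_univ_succ]⟩

theorem val_tor_sub (q : ℕ) (hq : 1 ≤ q) {l : ℕ} (h1 : 1 ≤ l) (h4 : l ≤ 4) :
    ∃ e ∈ tor l, e 0 = 0 ∧ val q e + 1 = q ^ l := by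
  obtain ⟨d, rfl⟩ := Nat.exists_eq_add_of_le' hq
  interval_cases l
  · exact ⟨_, List.mem_cons_of_mem _ (List.mem_cons_self ..), rfl, by simp [val, base, Fin.prod_univ_succ]⟩
  · exact ⟨_, List.mem_cons_of_mem _ (List.mem_cons_self ..), rfl, by simp [val, base, Fin.prod_univ_succ]; ring⟩
  · exact ⟨_, List.mem_cons_of_mem _ (List.mem_cons_self ..), rfl, by simp [val, base, Fin.prod_univ_succ]; ring⟩
  · exact ⟨_, List.mem_cons_of_mem _ (List.mem_cons_self ..), rfl, by simp [val, base, Fin.prod_univ_succ]; ring⟩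

theorem val_setTwo (q : ℕ) {e : Fin 7 → ℕ} (he : e 0 = 0) (n : ℕ) :
    val q (fun i => if i = 0 then n else e i) = val q e * 2 ^ n := by
  simp only [val, Fin.prod_univ_succ, he, base]
  simp
  ring

section Poly

variable {F : Type*} [Field F]

theorem reverse_facts {p : F[X]} (h : p.coeff 0 ≠ 0) :
    p.reverse.natDegree = p.natDegree ∧ p.reverse.reverse = p ∧ p.reverse.coeff 0 ≠ 0 := by
  have h0 : p ≠ 0 := fun e => h (by rw [e, coeff_zero])
  have hd : p.reverse.natDegree = p.natDegree := by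
    rw [reverse_natDegree, natTrailingDegree_eq_zero.2 (Or.inr h), Nat.sub_zero]
  refine ⟨hd, ?_, ?_⟩
  · rw [reverse, hd, reverse, Polynomial.reflect_reflect]
  · rw [coeff_zero_reverse]
    exact leadingCoeff_ne_zero.2 h0

theorem reverse_dvd {p r : F[X]} (h : p ∣ r) : p.reverse ∣ r.reverse := by
  obtain ⟨s, rfl⟩ := h
  rw [reverse_mul_of_domain]
  exact dvd_mul_right _ _

theorem reverse_pow' (p : F[X]) (n : ℕ) : (p ^ n).reverse = p.reverse ^ n := by
  induction n with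
  | zero => rw [pow_zero, pow_zero, ← C_1, reverse_C]
  | succ i ih => rw [pow_succ, reverse_mul_of_domain, ih, pow_succ]

theorem reverse_irreducible {f : F[X]} (hf : Irreducible f) (h : f.coeff 0 ≠ 0) : Irreducible f.reverse := by
  obtain ⟨hd, hrr, h'⟩ := reverse_facts h
  refine ⟨fun hu => ?_, fun p r hpr => ?_⟩
  · have := natDegree_eq_zero_of_isUnit hu
    exact hf.natDegree_pos.ne' (hd ▸ this)
  · rw [hpr, mul_coeff_zero] at h'
    have hp := reverse_facts (left_ne_zero_of_mul h')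
    have hr := reverse_facts (right_ne_zero_of_mul h')
    have e : f = p.reverse * r.reverse := by rw [← reverse_mul_of_domain, ← hpr, hrr]
    have key : ∀ {s : F[X]}, s.coeff 0 ≠ 0 → s.reverse.natDegree = s.natDegree → IsUnit s.reverse → IsUnit s :=
      fun hs hsd hu => by
        rw [isUnit_iff_degree_eq_zero, degree_eq_natDegree (fun e => hs (by rw [e, coeff_zero])), ← hsd,
          natDegree_eq_zero_of_isUnit hu]
        rfl
    exact (hf.isUnit_or_isUnit e).imp (key (left_ne_zero_of_mul h') hp.1) (key (right_ne_zero_of_mul h') hr.1)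

theorem X_pow_sub_one_dvd {m n : ℕ} (h : m ∣ n) : (X : F[X]) ^ m - 1 ∣ X ^ n - 1 := by
  obtain ⟨c, rfl⟩ := h
  have := sub_dvd_pow_sub_pow ((X : F[X]) ^ m) 1 c
  rwa [one_pow, ← pow_mul] at this

theorem pow_dvd_blowup [CharP F 2] {f : F[X]} {N a n : ℕ} (h : f ∣ X ^ N - 1) (ha : a ≤ 2 ^ n) :
    f ^ a ∣ X ^ (N * 2 ^ n) - 1 := by
  haveI : Fact (Nat.Prime 2) := ⟨Nat.prime_two⟩
  have e : ((X : F[X]) ^ N - 1) ^ 2 ^ n = X ^ (N * 2 ^ n) - 1 := by
    rw [sub_pow_char_pow, one_pow, ← pow_mul]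
  rw [← e]
  exact (pow_dvd_pow f ha).trans (pow_dvd_pow_of_dvd h _)

theorem reverse_X_pow_sub_one [CharP F 2] {N : ℕ} (hN : N ≠ 0) : ((X : F[X]) ^ N - 1).reverse = X ^ N - 1 := by
  have e : ((X : F[X]) ^ N - 1).natDegree = N := by rw [← C_1]; exact natDegree_X_pow_sub_C
  rw [reverse, e, show ((X : F[X]) ^ N - 1) = X ^ N + 1 from CharTwo.sub_eq_add _ _, reflect_add, ← C_1,
    reflect_C, ← one_mul ((X : F[X]) ^ N), ← C_1, reflect_C_mul_X_pow, revAt_le le_rfl, Nat.sub_self, C_1, one_mul,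
    pow_zero]
  ring

theorem coeff_zero_ne_zero_of_dvd {p r : F[X]} (h : p ∣ r) (hr : r.coeff 0 ≠ 0) : p.coeff 0 ≠ 0 := by
  obtain ⟨s, rfl⟩ := h
  rw [mul_coeff_zero] at hr
  exact left_ne_zero_of_mul hr

theorem eval_one_ne_zero_of_dvd {p r : F[X]} (h : p ∣ r) (hr : r.eval 1 ≠ 0) : p.eval 1 ≠ 0 := by
  obtain ⟨s, rfl⟩ := h
  rw [eval_mul] at hr
  exact left_ne_zero_of_mul hr

variable [Fintype F] [CharP F 2]

theorem card_pos' : 1 ≤ Fintype.card F := Fintype.card_pos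

set_option maxHeartbeats 1000000 in
/-- One block. -/
theorem block {ν : F[X]} (h0 : ν.coeff 0 ≠ 0) (h1 : ν.eval 1 ≠ 0) (hd : ν ∣ ν.reverse)
    (hν : 1 ≤ ν.natDegree) (h8 : ν.natDegree ≤ 9) :
    ∃ (P ν' : F[X]) (l a : ℕ) (b : Fin 7 → ℕ), 1 ≤ l ∧ 1 ≤ a ∧ b ∈ blk l a ∧ ν = P * ν' ∧
      P.natDegree = 2 * (l * a) ∧ P ∣ X ^ val (Fintype.card F) b - 1 ∧ IsCoprime P ν' ∧ ν' ∣ ν'.reverse := by
  have hν0 : ν ≠ 0 := fun e => h0 (by rw [e, coeff_zero])
  have hrev : ν.reverse ∣ ν := by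
    have := reverse_dvd hd
    rwa [(reverse_facts h0).2.1] at this
  obtain ⟨f, hfm, hf, hfd⟩ := Polynomial.exists_monic_irreducible_factor ν (fun hu => by
    have := natDegree_eq_zero_of_isUnit hu; omega)
  obtain ⟨a, c, hfc, hc⟩ := WfDvdMonoid.max_power_factor hν0 hf
  have ha : 1 ≤ a := by
    rcases Nat.eq_zero_or_pos a with rfl | h
    · rw [pow_zero, one_mul] at hc; exact absurd (hc ▸ hfd) hfc
    · exact h
  have hf0 := coeff_zero_ne_zero_of_dvd hfd h0
  have hf1 := eval_one_ne_zero_of_dvd hfd h1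
  have hfX : ¬ f ∣ X := fun h => hf0 (by
    have := (hf.associated_of_dvd irreducible_X h)
    obtain ⟨u, hu⟩ := this.symm
    rw [← hu, mul_coeff_zero, coeff_X_zero, zero_mul])
  obtain ⟨hgd, hgg, hg0⟩ := reverse_facts hf0
  have hc0 : c ≠ 0 := fun e => hν0 (by rw [hc, e, mul_zero])
  have hdeg : a * f.natDegree + c.natDegree = ν.natDegree := by
    rw [hc, natDegree_mul (pow_ne_zero _ hf.ne_zero) hc0, natDegree_pow]
  by_cases hsd : f ∣ f.reverse
  · rcases selfrecip_cases hfm hf hfX hsd with ⟨-, e, he, hfe⟩ | ⟨l, hl, hfl, hfN⟩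
    · exfalso
      have e1 : e = 1 := by
        have : (e + 1) * (e + 1) = 0 := by
          rw [CharTwo.add_mul_self, he, one_mul, CharTwo.add_self_eq_zero]
        have h := mul_self_eq_zero.1 this
        exact CharTwo.add_eq_zero.1 h
      subst e1
      obtain ⟨u, hu⟩ := (hf.associated_of_dvd (irreducible_X_sub_C (1 : F)) hfe).symm
      exact hf1 (by rw [← hu, eval_mul]; simp)
    have hla : 2 * (l * a) ≤ 9 := by nlinarith
    have hl4 : l ≤ 4 := by nlinarith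
    have ha8 : a ≤ 8 := by nlinarith
    obtain ⟨t, ht, ht0, htv⟩ := val_tor_add (Fintype.card F) card_pos' hl hl4
    refine ⟨f ^ a, c, l, a, fun i => if i = 0 then e2 a else t i, hl, ha, List.mem_map.2 ⟨t, ht, rfl⟩, hc,
      by rw [natDegree_pow, hfl]; ring, ?_, ((hf.coprime_iff_not_dvd).2 hfc).pow_left, ?_⟩
    · rw [val_setTwo _ ht0, htv]
      exact pow_dvd_blowup hfN (le_two_pow_e2 ha8)
    · have hfr : f.reverse ∣ f := by
        have := reverse_dvd hsd
        rwa [hgg] at this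
      have h : f ^ a * c ∣ f ^ a * c.reverse := by
        rw [← hc]
        refine hd.trans ?_
        rw [hc, reverse_mul_of_domain, reverse_pow']
        exact mul_dvd_mul_right (pow_dvd_pow_of_dvd hfr a) _
      exact (mul_dvd_mul_iff_left (pow_ne_zero _ hf.ne_zero)).1 h
  · have hg := reverse_irreducible hf hf0
    have hco : IsCoprime f f.reverse := (hf.coprime_iff_not_dvd).2 hsd
    have hgν : f.reverse ^ a ∣ ν := by
      rw [← reverse_pow']
      exact (reverse_dvd (hc ▸ dvd_mul_right _ _)).trans hrev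
    have hgc : f.reverse ^ a ∣ c :=
      (hco.symm.pow (m := a) (n := a)).dvd_of_dvd_mul_left (by rw [← hc]; exact hgν)
    obtain ⟨c', hc'⟩ := hgc
    have hνe : ν = f ^ a * f.reverse ^ a * c' := by rw [hc, hc', mul_assoc]
    have hc'0 : c' ≠ 0 := fun e => hc0 (by rw [hc', e, mul_zero])
    have hfc' : ¬ f ∣ c' := fun h => hfc (hc' ▸ h.mul_left _)
    have hgc' : ¬ f.reverse ∣ c' := fun h => by
      have h2 : f.reverse ^ (a + 1) ∣ ν := by
        rw [hνe, mul_assoc, pow_succ]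
        exact (mul_dvd_mul_left _ h).mul_left _
      have h3 := (reverse_dvd h2).trans hrev
      rw [reverse_pow', hgg, hc, pow_succ] at h3
      exact hfc ((mul_dvd_mul_iff_left (pow_ne_zero _ hf.ne_zero)).1 h3)
    have hl : 1 ≤ f.natDegree := hf.natDegree_pos
    have hdeg2 : 2 * (f.natDegree * a) + c'.natDegree = ν.natDegree := by
      rw [← hdeg, hc', natDegree_mul (pow_ne_zero _ hg.ne_zero) hc'0, natDegree_pow, hgd]; ring
    have hl4 : f.natDegree ≤ 4 := by nlinarith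
    have ha8 : a ≤ 8 := by nlinarith
    obtain ⟨t, ht, ht0, htv⟩ := val_tor_sub (Fintype.card F) card_pos' hl hl4
    have hN : val (Fintype.card F) t ≠ 0 := by
      have := Nat.one_lt_pow (by omega : f.natDegree ≠ 0) (Fintype.one_lt_card (α := F))
      omega
    have hfN : f ∣ X ^ val (Fintype.card F) t - 1 := by
      have h := hf.natDegree_dvd_iff_dvd_X_pow_card_pow_sub_X.mp (dvd_refl f.natDegree)
      rw [Nat.card_eq_fintype_card, ← htv, pow_succ, show (X : F[X]) ^ val (Fintype.card F) t * X - X =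
        X * (X ^ val (Fintype.card F) t - 1) by ring] at h
      exact (hf.prime.dvd_or_dvd h).resolve_left hfX
    refine ⟨f ^ a * f.reverse ^ a, c', f.natDegree, a, fun i => if i = 0 then e2 a else t i, hl, ha,
      List.mem_map.2 ⟨t, ht, rfl⟩, hνe, ?_, ?_,
      (((hf.coprime_iff_not_dvd).2 hfc').pow_left).mul_left (((hg.coprime_iff_not_dvd).2 hgc').pow_left), ?_⟩
    · rw [natDegree_mul (pow_ne_zero _ hf.ne_zero) (pow_ne_zero _ hg.ne_zero), natDegree_pow, natDegree_pow, hgd]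
      ring
    · rw [val_setTwo _ ht0]
      refine hco.pow.mul_dvd (pow_dvd_blowup hfN (le_two_pow_e2 ha8)) (pow_dvd_blowup ?_ (le_two_pow_e2 ha8))
      rw [← reverse_X_pow_sub_one hN]
      exact reverse_dvd hfN
    · have h : f ^ a * f.reverse ^ a * c' ∣ f ^ a * f.reverse ^ a * c'.reverse := by
        rw [← hνe]
        refine hd.trans (dvd_of_eq ?_)
        rw [hνe, reverse_mul_of_domain, reverse_mul_of_domain, reverse_pow', reverse_pow', hgg]
        ring
      exact (mul_dvd_mul_iff_left (mul_ne_zero (pow_ne_zero _ hf.ne_zero) (pow_ne_zero _ hg.ne_zero))).1 h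

/-- Self-dual polynomials without the roots 0 and 1. -/
theorem selfdual_bound : ∀ (k : ℕ) (ν : F[X]), k < 5 → ν.coeff 0 ≠ 0 → ν.eval 1 ≠ 0 → ν ∣ ν.reverse →
    ν.natDegree ≤ 2 * k + 1 → ∃ z ∈ S k, ν ∣ X ^ val (Fintype.card F) z - 1 := by
  intro k
  induction k using Nat.strong_induction_on with
  | _ k ih =>
    intro ν hk h0 h1 hd hdeg
    rcases Nat.eq_zero_or_pos ν.natDegree with hz | hpos
    · have hu : IsUnit ν := by
        rw [isUnit_iff_degree_eq_zero, degree_eq_natDegree (fun e => h0 (by rw [e, coeff_zero])), hz]; rfl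
      have : (S k).head? ≠ none := by interval_cases k <;> simp [S]
      obtain ⟨z, hz'⟩ := Option.ne_none_iff_exists'.1 this
      exact ⟨z, List.mem_of_mem_head? hz', hu.dvd⟩
    obtain ⟨P, ν', l, a, b, hl, ha, hb, hνe, hPd, hPN, hco, hd'⟩ := block h0 h1 hd hpos (by omega)
    have hP0 : P ≠ 0 := fun e => h0 (by rw [hνe, e, zero_mul, coeff_zero])
    have h'0 : ν' ≠ 0 := fun e => h0 (by rw [hνe, e, mul_zero, coeff_zero])
    have hsum : 2 * (l * a) + ν'.natDegree = ν.natDegree := by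
      rw [hνe, natDegree_mul hP0 h'0, hPd]
    have hla : l * a ≤ k := by omega
    have hl5 : l < 5 := by nlinarith
    have ha5 : a < 5 := by nlinarith
    obtain ⟨y, hy, hy'⟩ := ih (k - l * a) (by have := Nat.mul_pos hl ha; omega) ν' (by omega)
      (coeff_zero_ne_zero_of_dvd (Dvd.intro_left _ hνe.symm) h0)
      (eval_one_ne_zero_of_dvd (Dvd.intro_left _ hνe.symm) h1) hd' (by omega)
    obtain ⟨z, hz', hbz, hyz⟩ := step l hl5 a ha5 k hk hl ha hla b hb y hy
    refine ⟨z, hz', ?_⟩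
    rw [hνe]
    exact hco.mul_dvd (hPN.trans (X_pow_sub_one_dvd (val_dvd _ hbz)))
      (hy'.trans (X_pow_sub_one_dvd (val_dvd _ hyz)))

set_option maxHeartbeats 1000000 in
/-- Every order in `Sp_8(q)`, `q` even, divides one of twelve numbers. -/
theorem order_bound (A : Matrix.symplecticGroup (Fin 4) F) :
    ∃ z ∈ S 4, orderOf A ∣ val (Fintype.card F) z := by
  classical
  set μ := minpoly F A.1 with hμ
  have hm : μ.Monic := minpoly.monic A.1.isIntegral
  have hdeg : μ.natDegree ≤ 8 := by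
    refine (natDegree_le_of_dvd A.1.minpoly_dvd_charpoly A.1.charpoly_monic.ne_zero).trans ?_
    rw [A.1.charpoly_natDegree_eq_dim, Fintype.card_sum, Fintype.card_fin]
  have h0 : μ.coeff 0 ≠ 0 := fun h => by
    obtain ⟨r, hr⟩ := X_dvd_iff.2 h
    have h1 : A.1 * aeval A.1 r = 0 := by
      have := minpoly.aeval F A.1
      rwa [← hμ, hr, map_mul, aeval_X] at this
    have h2' : aeval A.1 r = 0 := by
      have := congrArg ((A⁻¹).1 * ·) h1
      simpa [← mul_assoc, ← Submonoid.coe_mul] using this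
    have hr0 : r ≠ 0 := fun h => hm.ne_zero (by rw [hr, h, mul_zero])
    have h3 := natDegree_le_of_dvd (minpoly.dvd F A.1 h2') hr0
    rw [← hμ, hr, natDegree_mul X_ne_zero hr0, natDegree_X] at h3
    omega
  have hd : μ ∣ μ.reverse := by
    refine minpoly.dvd F A.1 (aeval_reverse_eq_zero A ?_)
    rw [← adj_aeval, minpoly.aeval, adj_zero]
  obtain ⟨w, ν, hν1, hw⟩ := WfDvdMonoid.max_power_factor hm.ne_zero (irreducible_X_sub_C (1 : F))
  have hν0 : ν ≠ 0 := fun e => hm.ne_zero (by rw [hw, e, mul_zero])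
  have hsum : w + ν.natDegree = μ.natDegree := by
    rw [hw, natDegree_mul (pow_ne_zero _ (X_sub_C_ne_zero _)) hν0, natDegree_pow, natDegree_X_sub_C, mul_one]
  have hrX : ((X : F[X]) - C 1).reverse = X - C 1 := by
    have := reverse_X_pow_sub_one (F := F) one_ne_zero
    rwa [pow_one, ← C_1] at this
  have hd' : ν ∣ ν.reverse := by
    have h : (X - C 1 : F[X]) ^ w * ν ∣ (X - C 1) ^ w * ν.reverse := by
      rw [← hw]
      refine hd.trans (dvd_of_eq ?_)
      rw [hw, reverse_mul_of_domain, reverse_pow', hrX]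
    exact (mul_dvd_mul_iff_left (pow_ne_zero _ (X_sub_C_ne_zero _))).1 h
  have hev : ν.eval 1 ≠ 0 := fun h => hν1 (dvd_iff_isRoot.2 h)
  obtain ⟨y, hy, hy'⟩ := selfdual_bound (ν.natDegree / 2) ν (by omega)
    (coeff_zero_ne_zero_of_dvd (Dvd.intro_left _ hw.symm) h0) hev hd' (by omega)
  obtain ⟨z, hz, hwz, hyz⟩ := final w (by omega) (ν.natDegree / 2) (by omega) (by omega) y hy
  refine ⟨z, hz, orderOf_dvd_iff_pow_eq_one.2 (Subtype.ext ?_)⟩
  have hdvd : μ ∣ X ^ val (Fintype.card F) z - 1 := by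
    rw [hw]
    refine (((irreducible_X_sub_C (1 : F)).coprime_iff_not_dvd).2 hν1).pow_left.mul_dvd ?_
      (hy'.trans (X_pow_sub_one_dvd (val_dvd _ hyz)))
    refine (pow_dvd_blowup (N := 1) (by rw [pow_one, ← C_1]) (le_two_pow_e2 (by omega : w ≤ 8))).trans
      (X_pow_sub_one_dvd ?_)
    rw [one_mul, val, ← Finset.mul_prod_erase _ _ (Finset.mem_univ (0 : Fin 7))]
    exact (pow_dvd_pow _ hwz).mul_right _
  have h := aeval_eq_zero_of_dvd_aeval_eq_zero hdvd (minpoly.aeval F A.1)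
  rw [map_sub, map_pow, aeval_X, map_one, sub_eq_zero] at h
  rw [SubmonoidClass.coe_pow, h]
  rfl

end Poly

end Cfsg.Agent.Spectrum.SpEight
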