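import Cfsg.Agent.Classical.QuadTypes
import Cfsg.Agent.Spectrum.SpEight.Bound

/-!
Isometries of large order of the eight-dimensional quadratic space of minus type in characteristic two.
-/

set_option autoImplicit false

namespace Cfsg.Agent.Spectrum.SpEight

open Module QuadraticMap Cfsg.Agent.Classical.Quad

universe u v w

variable {F : Type u} [Field F]

/-- An isometry of order `N`. -/
def HasO {V : Type v} [AddCommGroup V] [Module F V] (Q : QuadraticForm F V) (N : ℕ) : Prop :=
  ∃ g : oG Q, orderOf g = N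

section Basic

variable {V : Type v} [AddCommGroup V] [Module F V] {W : Type w} [AddCommGroup W] [Module F W]
  {Q : QuadraticForm F V} {R : QuadraticForm F W}

theorem HasO.iso {N : ℕ} (h : HasO Q N) (hi : Iso Q R) : HasO R N := by
  obtain ⟨g, hg⟩ := h
  obtain ⟨e, he⟩ := hi
  exact ⟨oCongr e he g, by rw [MulEquiv.orderOf_eq, hg]⟩

theorem HasO.dvd {N d : ℕ} (h : HasO Q N) (hN : N ≠ 0) (hd : d ∣ N) : HasO Q d := by
  obtain ⟨g, hg⟩ := h
  exact exists_orderOf_eq_of_dvd (hg ▸ hN) (hg ▸ hd)

/-- The pair of two isometries. -/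
def prodHom (Q : QuadraticForm F V) (R : QuadraticForm F W) : oG Q × oG R →* oG (Q.prod R) where
  toFun g := ⟨g.1.1.prodCongr g.2.1, fun x => by simp [g.1.2 x.1, g.2.2 x.2]⟩
  map_one' := Subtype.ext (LinearEquiv.ext fun _ => rfl)
  map_mul' _ _ := Subtype.ext (LinearEquiv.ext fun _ => rfl)

theorem HasO.prod {M N : ℕ} (h : HasO Q M) (h' : HasO R N) : HasO (Q.prod R) (Nat.lcm M N) := by
  obtain ⟨g, hg⟩ := h
  obtain ⟨g', hg'⟩ := h'
  refine ⟨prodHom Q R (g, g'), ?_⟩
  rw [orderOf_injective (prodHom Q R) (fun a b hab => ?_), Prod.orderOf, hg, hg']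
  have key : ∀ x : V × W, (a.1.1 x.1, a.2.1 x.2) = (b.1.1 x.1, b.2.1 x.2) := fun x =>
    congrArg (fun f : (oG (Q.prod R)) => f.1 x) hab
  exact Prod.ext (Subtype.ext (LinearEquiv.ext fun x => congrArg Prod.fst (key (x, 0))))
    (Subtype.ext (LinearEquiv.ext fun x => congrArg Prod.snd (key (0, x))))

end Basic

/-- Hyperbolic planes can be moved. -/
theorem iso_plus_hyp {U : Type v} [AddCommGroup U] [Module F U] (R : QuadraticForm F U) (m n : ℕ) :
    Iso ((hyp (zeroForm F) m).prod (hyp R n)) (hyp R (m + n)) := by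
  let e : ((((Fin m → F) × (Fin m → F)) × (Fin 0 → F)) × (((Fin n → F) × (Fin n → F)) × U)) ≃ₗ[F]
      (((Fin (m + n) → F) × (Fin (m + n) → F)) × U) :=
    { toFun := fun x => ((Fin.append x.1.1.1 x.2.1.1, Fin.append x.1.1.2 x.2.1.2), x.2.2)
      map_add' := fun x y => by
        refine Prod.ext (Prod.ext (funext fun i => ?_) (funext fun i => ?_)) rfl <;>
          refine Fin.addCases (fun j => ?_) (fun j => ?_) i <;> simp
      map_smul' := fun c x => by
        refine Prod.ext (Prod.ext (funext fun i => ?_) (funext fun i => ?_)) rfl <;>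
          refine Fin.addCases (fun j => ?_) (fun j => ?_) i <;> simp
      invFun := fun y => (((fun i => y.1.1 (Fin.castAdd n i), fun i => y.1.2 (Fin.castAdd n i)), 0),
        ((fun i => y.1.1 (Fin.natAdd m i), fun i => y.1.2 (Fin.natAdd m i)), y.2))
      left_inv := fun x => by
        refine Prod.ext (Prod.ext (Prod.ext (funext fun i => ?_) (funext fun i => ?_)) (Subsingleton.elim _ _))
          (Prod.ext (Prod.ext (funext fun i => ?_) (funext fun i => ?_)) rfl) <;> simp
      right_inv := fun y => by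
        refine Prod.ext (Prod.ext (funext fun i => ?_) (funext fun i => ?_)) rfl <;>
          refine Fin.addCases (fun j => ?_) (fun j => ?_) i <;> simp }
  refine ⟨e, fun x => ?_⟩
  simp [e, hyp_apply, zeroForm, Fin.sum_univ_add, add_assoc]

theorem HasO.join {U : Type v} [AddCommGroup U] [Module F U] {R : QuadraticForm F U} {m n M N : ℕ}
    (h : HasO (hyp (zeroForm F) m) M) (h' : HasO (hyp R n) N) : HasO (hyp R (m + n)) (Nat.lcm M N) :=
  (h.prod h').iso (iso_plus_hyp R m n)

theorem iso_hyp_zero {U : Type v} [AddCommGroup U] [Module F U] (R : QuadraticForm F U) : Iso R (hyp R 0) := by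
  refine ⟨{ toFun := fun x => ((0, 0), x)
            map_add' := fun a b => by simp
            map_smul' := fun c a => by simp
            invFun := fun y => y.2
            left_inv := fun x => rfl
            right_inv := fun y => Prod.ext (Subsingleton.elim _ _) rfl }, fun x => ?_⟩
  simp [hyp_apply]

/-! ### Small elements -/

/-- The scaling of a plane. -/
theorem hasO_plus_sub [Fintype F] : HasO (hyp (zeroForm F) 1) (Fintype.card F - 1) := by
  obtain ⟨z, hz⟩ := IsCyclic.exists_ofOrder_eq_natCard (α := Fˣ)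
  let φ : Fˣ →* oG (hyp (zeroForm F) 1) :=
    { toFun := fun c =>
        ⟨{ toFun := fun x => (((c : F) • x.1.1, (↑c⁻¹ : F) • x.1.2), x.2)
           map_add' := fun x y => by simp [smul_add]
           map_smul' := fun t x => by simp [smul_comm t]
           invFun := fun x => (((↑c⁻¹ : F) • x.1.1, (c : F) • x.1.2), x.2)
           left_inv := fun x => by simp [smul_smul]
           right_inv := fun x => by simp [smul_smul] }, fun x => by
          simp [hyp_apply, mul_mul_mul_comm _ (x.1.1 0)]⟩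
      map_one' := Subtype.ext (LinearEquiv.ext fun x => by simp)
      map_mul' := fun c d => Subtype.ext (LinearEquiv.ext fun x => by simp [smul_smul, mul_comm]) }
  refine ⟨φ z, ?_⟩
  rw [orderOf_injective φ (fun c d h => Units.ext ?_) z, hz, Nat.card_units, Nat.card_eq_fintype_card]
  have := congrArg (fun f : oG (hyp (zeroForm F) 1) => (f.1 ((fun _ => 1, 0), 0)).1.1 0) h
  simpa [φ] using this

/-- The interchange of a hyperbolic pair. -/
theorem hasO_plus_two : HasO (hyp (zeroForm F) 1) 2 := by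
  haveI : Fact (Nat.Prime 2) := ⟨Nat.prime_two⟩
  let g : (((Fin 1 → F) × (Fin 1 → F)) × (Fin 0 → F)) ≃ₗ[F] (((Fin 1 → F) × (Fin 1 → F)) × (Fin 0 → F)) :=
    { toFun := fun x => ((x.1.2, x.1.1), x.2)
      map_add' := fun _ _ => rfl
      map_smul' := fun _ _ => rfl
      invFun := fun x => ((x.1.2, x.1.1), x.2)
      left_inv := fun _ => rfl
      right_inv := fun _ => rfl }
  refine ⟨⟨g, fun x => by simp [g, hyp_apply, mul_comm]⟩, orderOf_eq_prime (Subtype.ext ?_) fun h => ?_⟩
  · exact LinearEquiv.ext fun x => rfl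
  · have := congrArg (fun f : oG (hyp (zeroForm F) 1) => (f.1 ((fun _ => 1, 0), 0)).1.1 0) h
    simp [g] at this

variable {a b : F} (hab : ∀ z₁ z₂ : F, z₁ ^ 2 + a * z₁ * z₂ + b * z₂ ^ 2 = 0 → z₁ = 0 ∧ z₂ = 0)

section Aniso

variable [Fintype F] [CharP F 2]
include hab

theorem a_ne_zero : a ≠ 0 := fun ha => disc_ne_zero hab (by
  have h4 : (4 : F) = 0 := by linear_combination (2 : F) * CharTwo.two_eq_zero (R := F)
  rw [ha, h4]; ring)

/-- The reflection of an anisotropic plane. -/
theorem hasO_minus_two : HasO (binForm a b) 2 := by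
  haveI : Fact (Nat.Prime 2) := ⟨Nat.prime_two⟩
  let g : (F × F) ≃ₗ[F] (F × F) :=
    { toFun := fun x => (x.1 + a * x.2, x.2)
      map_add' := fun x y => Prod.ext (by simp; ring) rfl
      map_smul' := fun c x => Prod.ext (by simp; ring) rfl
      invFun := fun x => (x.1 + a * x.2, x.2)
      left_inv := fun x => Prod.ext (by simp [add_assoc, CharTwo.add_self_eq_zero]) rfl
      right_inv := fun x => Prod.ext (by simp [add_assoc, CharTwo.add_self_eq_zero]) rfl }
  refine ⟨⟨g, fun x => ?_⟩, orderOf_eq_prime (Subtype.ext ?_) fun h => ?_⟩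
  · show binForm a b (x.1 + a * x.2, x.2) = binForm a b x
    rw [binForm_apply, binForm_apply]
    linear_combination (a * x.1 * x.2 + a ^ 2 * x.2 ^ 2) * CharTwo.two_eq_zero (R := F)
  · refine LinearEquiv.ext fun x => Prod.ext ?_ rfl
    show x.1 + a * x.2 + a * x.2 = x.1
    rw [add_assoc, CharTwo.add_self_eq_zero, add_zero]
  · have := congrArg (fun f : oG (binForm a b) => (f.1 (0, 1)).1) h
    simp [g] at this
    exact a_ne_zero hab this

/-- Two anisotropic planes make two hyperbolic ones. -/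
theorem iso_bin_bin : Iso ((binForm a b).prod (binForm a b)) (hyp (zeroForm F) 2) := by
  have ha := a_ne_zero hab
  let e : ((F × F) × (F × F)) →ₗ[F] (((Fin 2 → F) × (Fin 2 → F)) × (Fin 0 → F)) :=
    { toFun := fun x => ((![x.1.1 + x.2.1, x.1.2 + x.2.2],
        ![x.1.1 + x.2.1 + a * x.2.2, a * x.2.1 + a * (x.1.1 + x.2.1) + b * (x.1.2 + x.2.2)]), 0)
      map_add' := fun x y => by
        refine Prod.ext (Prod.ext (funext fun i => ?_) (funext fun i => ?_)) (Subsingleton.elim _ _) <;>
          fin_cases i <;> simp <;> ring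
      map_smul' := fun c x => by
        refine Prod.ext (Prod.ext (funext fun i => ?_) (funext fun i => ?_)) (Subsingleton.elim _ _) <;>
          fin_cases i <;> simp <;> ring }
  have hinj : Function.Injective e := (injective_iff_map_eq_zero e).2 fun x hx => by
    have h1 : x.1.1 + x.2.1 = 0 := congrArg (fun p => p.1.1 0) hx
    have h2 : x.1.2 + x.2.2 = 0 := congrArg (fun p => p.1.1 1) hx
    have h3 : x.1.1 + x.2.1 + a * x.2.2 = 0 := congrArg (fun p => p.1.2 0) hx
    have h4 : a * x.2.1 + a * (x.1.1 + x.2.1) + b * (x.1.2 + x.2.2) = 0 := congrArg (fun p => p.1.2 1) hx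
    rw [h1, zero_add, mul_eq_zero] at h3
    rw [h1, h2, mul_zero, mul_zero, add_zero, add_zero, mul_eq_zero] at h4
    rw [h3.resolve_left ha, add_zero] at h2
    rw [h4.resolve_left ha, add_zero] at h1
    exact Prod.ext (Prod.ext h1 h2) (Prod.ext (h4.resolve_left ha) (h3.resolve_left ha))
  refine ⟨LinearMap.linearEquivOfInjective e hinj (by simp [Module.finrank_prod]), fun x => ?_⟩
  show hyp (zeroForm F) 2 (e x) = _
  simp [e, hyp_apply, zeroForm, Fin.sum_univ_two, binForm_apply]
  linear_combination (x.1.1 * x.2.1 + x.1.1 * x.2.2 * a + x.2.1 * x.2.2 * a + x.2.1 * x.1.2 * a + x.1.2 * x.2.2 * b) *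
    CharTwo.two_eq_zero (R := F)

end Aniso

/-! ### Regular unipotent elements -/

variable [CharP F 2]

/-- Numerals modulo two. -/
theorem num_mod_two (n : ℕ) [n.AtLeastTwo] : (OfNat.ofNat n : F) = ((n % 2 : ℕ) : F) :=
  (Nat.cast_ofNat (R := F) (n := n)).symm.trans (CharP.cast_eq_mod F 2 n)

/-- An element of order four, uniform in the parameter. -/
theorem hasO_four (z : F) : HasO (hyp (binForm 1 z) 1) 4 := by
  haveI : Fact (Nat.Prime 2) := ⟨Nat.prime_two⟩
  have h2 := CharTwo.two_eq_zero (R := F)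
  let f : (((Fin 1 → F) × (Fin 1 → F)) × (F × F)) → (((Fin 1 → F) × (Fin 1 → F)) × (F × F)) := fun p =>
    ((p.1.1, fun _ => z * p.1.1 0 + p.1.2 0 + p.2.1), (p.1.1 0 + p.2.1 + p.2.2, p.1.1 0 + p.2.2))
  have hf4 : ∀ p, f (f (f (f p))) = p := fun p => by
    refine Prod.ext (Prod.ext rfl (funext fun i => ?_)) (Prod.ext ?_ ?_)
    · rw [Subsingleton.elim i 0]
      simp only [f]
      linear_combination (2 * z * p.1.1 0 + 2 * p.2.1 + 5 * p.1.1 0 + 3 * p.2.2) * h2
    · simp only [f]
      linear_combination (5 * p.1.1 0 + 2 * p.2.2) * h2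
    · simp only [f]
      linear_combination (2 * p.1.1 0) * h2
  let g : (((Fin 1 → F) × (Fin 1 → F)) × (F × F)) ≃ₗ[F] (((Fin 1 → F) × (Fin 1 → F)) × (F × F)) :=
    { toFun := f
      map_add' := fun x y => by
        refine Prod.ext (Prod.ext rfl (funext fun i => ?_)) (Prod.ext ?_ ?_) <;> simp [f] <;> ring
      map_smul' := fun c x => by
        refine Prod.ext (Prod.ext rfl (funext fun i => ?_)) (Prod.ext ?_ ?_) <;> simp [f] <;> ring
      invFun := fun p => f (f (f p))
      left_inv := hf4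
      right_inv := hf4 }
  refine ⟨⟨g, fun x => ?_⟩, orderOf_eq_prime_pow (p := 2) (n := 1) (fun h => ?_) (Subtype.ext ?_)⟩
  · show hyp (binForm 1 z) 1 (f x) = hyp (binForm 1 z) 1 x
    simp [f, hyp_apply, binForm_apply]
    linear_combination (x.1.1 0 ^ 2 + z * x.1.1 0 ^ 2 + z * x.1.1 0 * x.2.2 + 2 * x.1.1 0 * x.2.1
      + 2 * x.1.1 0 * x.2.2 + x.2.1 * x.2.2 + x.2.2 ^ 2) * h2
  · have := congrArg (fun q : oG (hyp (binForm 1 z) 1) => (q.1 ((fun _ => 1, 0), (0, 0))).2.1) h
    simp [g, f, pow_two, LinearEquiv.mul_apply, CharTwo.add_self_eq_zero] at this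
  · refine LinearEquiv.ext fun x => ?_
    show f (f (f (f x))) = x
    exact hf4 x

set_option maxHeartbeats 1000000 in
/-- An element of order eight, uniform in the parameter. -/
theorem hasO_eight (z : F) : HasO (hyp (binForm 1 z) 2) 8 := by
  haveI : Fact (Nat.Prime 2) := ⟨Nat.prime_two⟩
  let f : (((Fin 2 → F) × (Fin 2 → F)) × (F × F)) → (((Fin 2 → F) × (Fin 2 → F)) × (F × F)) := fun p =>
    ((![p.1.1 0, p.1.1 1 + z * p.1.2 1 + p.2.1],
      ![p.1.1 1 + p.1.2 0 + z * p.1.2 1 + p.2.1, p.1.1 0 + p.1.2 1]),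
      (p.1.2 1 + p.2.1 + p.2.2, p.1.2 1 + p.2.2))
  let f4 : (((Fin 2 → F) × (Fin 2 → F)) × (F × F)) → (((Fin 2 → F) × (Fin 2 → F)) × (F × F)) := fun p =>
    ((![p.1.1 0, p.1.1 0 + p.1.1 1], ![p.1.2 0 + p.1.2 1, p.1.2 1]), p.2)
  have h2 := CharTwo.two_eq_zero (R := F)
  have hff : ∀ p, f (f p) = ((![p.1.1 0, z * p.1.1 0 + p.1.1 1 + p.1.2 1 + p.2.2],
      ![z * p.1.1 0 + p.1.2 0 + (z + 1) * p.1.2 1 + p.2.1 + p.2.2, p.1.2 1]),
      (p.1.1 0 + p.1.2 1 + p.2.1, p.1.1 0 + p.2.2)) := fun p => by
    refine Prod.ext (Prod.ext (funext fun i => ?_) (funext fun i => ?_)) (Prod.ext ?_ ?_) <;>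
      (try fin_cases i) <;> simp [f] <;> ring_nf <;> simp [num_mod_two]
  have hf4 : ∀ p, f (f (f (f p))) = f4 p := fun p => by
    rw [hff, hff]
    refine Prod.ext (Prod.ext (funext fun i => ?_) (funext fun i => ?_)) (Prod.ext ?_ ?_) <;>
      (try fin_cases i) <;> simp [f4] <;> ring_nf <;> simp [num_mod_two]
  have hf8 : ∀ p, f (f (f (f (f (f (f (f p))))))) = p := fun p => by
    rw [hf4, hf4]
    refine Prod.ext (Prod.ext (funext fun i => ?_) (funext fun i => ?_)) rfl <;>
      fin_cases i <;> simp [f4] <;> ring_nf <;> simp [num_mod_two]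
  let g : (((Fin 2 → F) × (Fin 2 → F)) × (F × F)) ≃ₗ[F] (((Fin 2 → F) × (Fin 2 → F)) × (F × F)) :=
    { toFun := f
      map_add' := fun x y => by
        refine Prod.ext (Prod.ext (funext fun i => ?_) (funext fun i => ?_)) (Prod.ext ?_ ?_) <;>
          (try fin_cases i) <;> simp [f] <;> ring
      map_smul' := fun c x => by
        refine Prod.ext (Prod.ext (funext fun i => ?_) (funext fun i => ?_)) (Prod.ext ?_ ?_) <;>
          (try fin_cases i) <;> simp [f] <;> ring
      invFun := fun p => f (f (f (f (f (f (f p))))))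
      left_inv := hf8
      right_inv := hf8 }
  have hpow : ∀ (k : ℕ) x, (g ^ k) x = f^[k] x := fun k x => by
    induction k with
    | zero => rfl
    | succ k ih => rw [pow_succ', LinearEquiv.mul_apply, ih, Function.iterate_succ_apply']; rfl
  refine ⟨⟨g, fun x => ?_⟩, orderOf_eq_prime_pow (p := 2) (n := 2) (fun h => ?_) (Subtype.ext ?_)⟩
  · show hyp (binForm 1 z) 2 (f x) = hyp (binForm 1 z) 2 x
    simp [f, hyp_apply, binForm_apply, Fin.sum_univ_two]
    ring_nf
    simp [num_mod_two]
  · have key : f4 ((![1, 0], 0), (0, 0)) = ((![1, 0], 0), (0, 0)) := by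
      have := congrArg (fun q : oG (hyp (binForm 1 z) 2) => q.1 ((![1, 0], 0), (0, 0))) h
      simp only [SubgroupClass.coe_pow, OneMemClass.coe_one, hpow] at this
      rw [← hf4]
      exact this
    have := congrArg (fun p => p.1.1 1) key
    simp [f4] at this
  · refine LinearEquiv.ext fun x => ?_
    simp only [SubgroupClass.coe_pow, OneMemClass.coe_one, hpow]
    exact hf8 x

/-- `x ^ 2 + x y` is a hyperbolic plane. -/
theorem iso_hyp_split (n : ℕ) : Iso (hyp (binForm (1 : F) 0) n) (hyp (zeroForm F) (n + 1)) := by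
  refine ⟨{ toFun := fun x => ((Fin.cons x.2.1 x.1.1, Fin.cons (x.2.1 + x.2.2) x.1.2), 0)
            map_add' := fun x y => by
              refine Prod.ext (Prod.ext (funext fun i => ?_) (funext fun i => ?_)) (Subsingleton.elim _ _) <;>
                refine Fin.cases ?_ (fun j => ?_) i <;> simp <;> ring
            map_smul' := fun c x => by
              refine Prod.ext (Prod.ext (funext fun i => ?_) (funext fun i => ?_)) (Subsingleton.elim _ _) <;>
                refine Fin.cases ?_ (fun j => ?_) i <;> simp <;> ring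
            invFun := fun y => ((Fin.tail y.1.1, Fin.tail y.1.2), (y.1.1 0, y.1.1 0 + y.1.2 0))
            left_inv := fun x => by
              simp [← add_assoc, CharTwo.add_self_eq_zero]
            right_inv := fun y => by
              refine Prod.ext (Prod.ext (funext fun i => ?_) (funext fun i => ?_)) (Subsingleton.elim _ _) <;>
                refine Fin.cases ?_ (fun j => ?_) i <;> simp [Fin.tail, ← add_assoc, CharTwo.add_self_eq_zero] },
    fun x => ?_⟩
  simp [hyp_apply, binForm_apply, zeroForm, Fin.sum_univ_succ]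
  ring

theorem hasO_plus_four : HasO (hyp (zeroForm F) 2) 4 := (hasO_four (0 : F)).iso (iso_hyp_split 1)

theorem hasO_plus_eight : HasO (hyp (zeroForm F) 3) 8 := (hasO_eight (0 : F)).iso (iso_hyp_split 2)

include hab in
theorem hasO_minus_eight [Finite F] : HasO (hyp (binForm a b) 2) 8 := by
  obtain ⟨ζ, hζ⟩ := exists_rootfree (F := F)
  exact (hasO_eight ζ).iso (iso_hyp (iso_binForm hab hζ) 2)

end Cfsg.Agent.Spectrum.SpEight
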