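import Cfsg.Agent.Spectrum.SpEight.Orth

/-!
The cyclic tori of orders `q ^ k - 1` and `q ^ k + 1` of even-dimensional orthogonal groups.
-/

set_option autoImplicit false

namespace Cfsg.Agent.Spectrum.SpEight

open Module QuadraticMap Cfsg.Agent.Classical.Quad

universe u

variable {F : Type u} [Field F] [Fintype F] (p : ℕ) [Fact p.Prime] [CharP F p]
include p

set_option maxHeartbeats 1000000 in
/-- The split torus. -/
theorem hasO_plus_torus {k : ℕ} (hk : 1 ≤ k) : HasO (hyp (zeroForm F) k) (Fintype.card F ^ k - 1) := by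
  classical
  haveI : NeZero k := ⟨by omega⟩
  let E := FiniteField.Extension F p k
  let b := finBasisOfFinrankEq F E (FiniteField.finrank_extension F p k)
  let D : E →ₗ[F] (Fin k → F) := LinearMap.pi fun i => Algebra.traceForm F E (b i)
  have hD : ∀ y i, D y i = Algebra.trace F E (b i * y) := fun y i => rfl
  let e : E × E →ₗ[F] ((Fin k → F) × (Fin k → F)) × (Fin 0 → F) :=
    ((b.equivFun.toLinearMap.comp (LinearMap.fst F E E)).prod (D.comp (LinearMap.snd F E E))).prod 0
  have hpair : ∀ x y, hyp (zeroForm F) k (e (x, y)) = Algebra.trace F E (x * y) := fun x y => by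
    conv_rhs => rw [← b.sum_equivFun x, Finset.sum_mul, map_sum]
    simp [hyp_apply, zeroForm, e, hD]
  have hinj : Function.Injective e := (injective_iff_map_eq_zero e).2 fun x hx => by
    have h1 : b.equivFun x.1 = 0 := congrArg (fun w => w.1.1) hx
    have h2 : D x.2 = 0 := congrArg (fun w => w.1.2) hx
    refine Prod.ext (b.equivFun.map_eq_zero_iff.1 h1) ((traceForm_nondegenerate F E).2 x.2 fun y => ?_)
    rw [← b.sum_equivFun y, map_sum, LinearMap.coe_sum, Finset.sum_apply]
    refine Finset.sum_eq_zero fun i _ => ?_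
    rw [map_smul, LinearMap.smul_apply]
    have := congrFun h2 i
    rw [hD] at this
    rw [Algebra.traceForm_apply, this, Pi.zero_apply, smul_zero]
  let eq := LinearMap.linearEquivOfInjective e hinj
    (by simp [Module.finrank_prod, E, FiniteField.finrank_extension])
  let m : Eˣ →* (E ≃ₗ[F] E) :=
    { toFun := fun u =>
        { toFun := fun x => (u : E) * x
          invFun := fun x => (u⁻¹ : Eˣ) * x
          map_add' := mul_add _
          map_smul' := fun c x => mul_smul_comm c _ _
          left_inv := fun x => by simp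
          right_inv := fun x => by simp }
      map_one' := LinearEquiv.ext fun x => one_mul x
      map_mul' := fun u w => LinearEquiv.ext fun x => mul_assoc _ _ _ }
  obtain ⟨z, hz⟩ := IsCyclic.exists_ofOrder_eq_natCard (α := Eˣ)
  let ρ : Eˣ →* oG (hyp (zeroForm F) k) :=
    { toFun := fun c => ⟨eq.symm.trans (((m c).prodCongr (m c⁻¹)).trans eq), fun w => by
          obtain ⟨⟨x, y⟩, rfl⟩ := eq.surjective w
          show hyp (zeroForm F) k (eq (((m c).prodCongr (m c⁻¹)) (eq.symm (eq (x, y))))) =
            hyp (zeroForm F) k (eq (x, y))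
          rw [eq.symm_apply_apply]
          show hyp (zeroForm F) k (e ((c : E) * x, (c⁻¹ : Eˣ) * y)) = hyp (zeroForm F) k (e (x, y))
          rw [hpair, hpair, mul_mul_mul_comm, c.mul_inv, one_mul]⟩
      map_one' := Subtype.ext (LinearEquiv.ext fun x => by simp)
      map_mul' := fun c d => Subtype.ext (LinearEquiv.ext fun x => by
        simp [LinearEquiv.mul_apply, m, mul_assoc, mul_left_comm]) }
  refine ⟨ρ z, ?_⟩
  rw [orderOf_injective ρ (fun c d h => Units.ext ?_) z, hz, Nat.card_units, FiniteField.natCard_extension,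
    Nat.card_eq_fintype_card]
  have := congrArg (fun f : oG (hyp (zeroForm F) k) => (eq.symm (f.1 (eq (1, 0)))).1) h
  simpa [ρ, m] using this

set_option maxHeartbeats 1000000 in
/-- The anisotropic torus. -/
theorem hasO_minus_torus {a b : F} (hab : ∀ z₁ z₂ : F, z₁ ^ 2 + a * z₁ * z₂ + b * z₂ ^ 2 = 0 → z₁ = 0 ∧ z₂ = 0)
    (l : ℕ) : HasO (hyp (binForm a b) l) (Fintype.card F ^ (l + 1) + 1) := by
  classical
  set k := l + 1 with hk
  haveI : NeZero (2 * k) := ⟨by omega⟩
  let K := FiniteField.Extension F p (2 * k)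
  haveI : Fintype K := Fintype.ofFinite K
  have hcK : Fintype.card K = Fintype.card F ^ (2 * k) := by
    rw [← Nat.card_eq_fintype_card, FiniteField.natCard_extension, Nat.card_eq_fintype_card]
  set Q := Fintype.card F ^ k with hQ
  let bar : K →ₐ[F] K := (FiniteField.frobeniusAlgHom F K) ^ k
  have hbar : ∀ x, bar x = x ^ Q := fun x => by
    show ((FiniteField.frobeniusAlgHom F K) ^ k) x = _
    rw [AlgHom.coe_pow, FiniteField.coe_frobeniusAlgHom, hQ, pow_iterate]
  have hbb : ∀ x, bar (bar x) = x := fun x => by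
    rw [hbar, hbar, ← pow_mul, hQ, ← pow_add, ← two_mul, ← hcK, FiniteField.pow_card]
  let bare : K ≃ₐ[F] K := AlgEquiv.ofBijective bar ⟨bar.injective, fun x => ⟨bar x, hbb x⟩⟩
  have htr : ∀ x, Algebra.trace F K (bar x) = Algebra.trace F K x := fun x => Algebra.trace_eq_of_algEquiv bare x
  obtain ⟨z₀, hz₀⟩ := IsCyclic.exists_ofOrder_eq_natCard (α := Kˣ)
  have hq1 : 1 < Q := Nat.one_lt_pow (by omega) Fintype.one_lt_card
  have hcard : orderOf z₀ = (Q - 1) * (Q + 1) := by
    rw [hz₀, Nat.card_units, FiniteField.natCard_extension, Nat.card_eq_fintype_card, two_mul, pow_add, ← hQ,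
      mul_comm (Q - 1), ← Nat.sq_sub_sq, one_pow, pow_two]
  obtain ⟨θ, hθ⟩ : ∃ θ : K, θ + bar θ = 1 := by
    by_cases h2 : (2 : K) = 0
    · have hne : (z₀ : K) + bar z₀ ≠ 0 := fun h => by
        have e : bar (z₀ : K) = z₀ := by linear_combination h - (z₀ : K) * h2
        have h1 : z₀ ^ (Q - 1) = 1 := by
          have h3 : z₀ ^ Q = z₀ := Units.ext (by rw [Units.val_pow_eq_pow_val, ← hbar]; exact e)
          rw [pow_sub z₀ hq1.le, pow_one, h3, mul_inv_cancel]
        have := Nat.le_of_dvd (by omega) (orderOf_dvd_of_pow_eq_one h1)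
        rw [hcard] at this
        nlinarith [show 1 ≤ Q - 1 by omega]
      refine ⟨(z₀ : K) / ((z₀ : K) + bar z₀), ?_⟩
      rw [map_div₀, map_add, hbb, add_comm (bar (z₀ : K)), ← add_div, div_self hne]
    · exact ⟨2⁻¹, by rw [map_inv₀, show bar (2 : K) = 2 from map_ofNat bar 2, ← two_mul, mul_inv_cancel₀ h2]⟩
  let B : LinearMap.BilinForm F K := LinearMap.mk₂ F
    (fun x y => Algebra.trace F K (θ * (x * bar y)))
    (fun x y w => by rw [← map_add]; congr 1; ring)
    (fun c x y => by rw [← map_smul]; congr 1; simp [Algebra.smul_def]; ring)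
    (fun x y w => by rw [← map_add]; congr 1; rw [map_add]; ring)
    (fun c x y => by rw [← map_smul]; congr 1; simp [Algebra.smul_def]; ring)
  let N : QuadraticForm F K := B.toQuadraticMap
  have hN : ∀ x, N x = Algebra.trace F K (θ * (x * bar x)) := fun x => rfl
  have hpol : ∀ x y, polar N x y = Algebra.trace F K (x * bar y) := fun x y => by
    have e1 : Algebra.trace F K (θ * (y * bar x)) = Algebra.trace F K (bar θ * (x * bar y)) := by
      rw [← htr, map_mul bar, map_mul bar, hbb, mul_comm (bar y)]
    rw [polar, hN, hN, hN, ← map_sub, ← map_sub,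
      show θ * ((x + y) * bar (x + y)) - θ * (x * bar x) - θ * (y * bar y) = θ * (x * bar y) + θ * (y * bar x) by
        rw [map_add]; ring,
      map_add, e1, ← map_add, ← add_mul, hθ, one_mul]
  have hnd : (polarBilin N).Nondegenerate := nondeg_of fun x hx => (traceForm_nondegenerate F K).1 x fun y => by
    rw [Algebra.traceForm_apply]
    have := hx (bar y)
    rwa [hpol, hbb] at this
  have hfr : finrank F K = 2 * k := FiniteField.finrank_extension F p (2 * k)
  obtain ⟨z, hz⟩ := exists_orderOf_eq_of_dvd (orderOf_pos z₀).ne' (hcard ▸ dvd_mul_left (Q + 1) (Q - 1))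
  have hzbar : (z : K) * bar z = 1 := by
    rw [hbar, ← pow_succ', ← Units.val_pow_eq_pow_val, ← hz, pow_orderOf_eq_one, Units.val_one]
  let H : Subgroup Kˣ :=
    { carrier := {u | (u : K) * bar u = 1}
      mul_mem' := fun {u w} hu hw => by
        simp only [Set.mem_setOf_eq, Units.val_mul, map_mul] at hu hw ⊢
        linear_combination (w : K) * bar w * hu + hw
      one_mem' := by simp
      inv_mem' := fun {u} hu => by
        simp only [Set.mem_setOf_eq] at hu ⊢
        rw [Units.val_inv_eq_inv_val, map_inv₀, ← mul_inv, hu, inv_one] }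
  have hHN : ∀ (u : Kˣ), u ∈ H → ∀ x, N ((u : K) * x) = N x := fun u hu x => by
    rw [hN, hN, map_mul bar, show θ * ((u : K) * x * (bar u * bar x)) = θ * (((u : K) * bar u) * (x * bar x)) by ring,
      show (u : K) * bar u = 1 from hu, one_mul]
  have hdvd : Q + 1 ∣ Nat.card {x : K // N x = 1} := by
    let T : Set Kˣ := {u | N (u : K) = 1}
    have e1 : {x : K // N x = 1} ≃ T :=
      { toFun := fun x => ⟨Units.mk0 x.1 (fun h => by have := x.2; rw [h, map_zero] at this; exact zero_ne_one this),
          x.2⟩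
        invFun := fun u => ⟨(u.1 : K), u.2⟩
        left_inv := fun x => rfl
        right_inv := fun u => Subtype.ext (Units.ext rfl) }
    have hT : (QuotientGroup.mk : Kˣ → Kˣ ⧸ H) ⁻¹' (QuotientGroup.mk '' T) = T := by
      refine Set.Subset.antisymm (fun u hu => ?_) (Set.subset_preimage_image _ _)
      obtain ⟨w, hw, hwu⟩ := hu
      have hm := QuotientGroup.eq.1 hwu
      show N (u : K) = 1
      have := hHN _ hm (w : K)
      rw [← Units.val_mul, mul_comm (w⁻¹ * u) w, mul_inv_cancel_left] at this
      rw [this]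
      exact hw
    have e2 := QuotientGroup.preimageMkEquivSubgroupProdSet H (QuotientGroup.mk '' T)
    rw [hT] at e2
    rw [Nat.card_congr (e1.trans e2), Nat.card_prod, ← hz]
    exact (Subgroup.orderOf_dvd_natCard H (x := z) hzbar).mul_right _
  let ρ : H →* oG N :=
    { toFun := fun u =>
        ⟨{ toFun := fun x => (u.1 : K) * x
           invFun := fun x => (u.1⁻¹ : Kˣ) * x
           map_add' := mul_add _
           map_smul' := fun c x => mul_smul_comm c _ _
           left_inv := fun x => by simp
           right_inv := fun x => by simp }, hHN u.1 u.2⟩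
      map_one' := Subtype.ext (LinearEquiv.ext fun x => one_mul x)
      map_mul' := fun u w => Subtype.ext (LinearEquiv.ext fun x => mul_assoc _ _ _) }
  have hhas : HasO N (Q + 1) := by
    refine ⟨ρ ⟨z, hzbar⟩, ?_⟩
    rw [orderOf_injective ρ (fun u w h => Subtype.ext (Units.ext (by
      have := congrArg (fun f : oG N => f.1 1) h
      simpa [ρ] using this))), ← Subgroup.orderOf_coe]
    exact hz
  rcases even_cases hnd hfr with hplus | ⟨-, hminus⟩
  · exfalso
    have hz1 := hplus.zcard_eq
    have h1 := zcard_plus (F := F) rfl l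
    rw [← hk, hz1] at h1
    set M := Nat.card {x : K // N x = 1} with hM
    have hlev : ∀ c : F, c ≠ 0 → Nat.card {x : K // N x = c} = M := by
      intro c hc
      obtain ⟨e, he⟩ := iso_smul_even hnd hfr (inv_ne_zero hc)
      refine Nat.card_congr (e.toEquiv.subtypeEquiv fun x => ?_)
      change N x = c ↔ N (e x) = 1
      rw [he, QuadraticMap.smul_apply, smul_eq_mul, inv_mul_eq_one₀ hc, eq_comm]
    have htot : Fintype.card F ^ (2 * k) = zcard N + (Fintype.card F - 1) * M := by
      have h := (Nat.card_congr (Equiv.sigmaFiberEquiv (fun x : K => N x))).symm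
      rw [Module.natCard_eq_pow_finrank (K := F) (V := K), hfr, Nat.card_eq_fintype_card (α := F),
        Nat.card_sigma, ← Finset.add_sum_erase _ _ (Finset.mem_univ (0 : F)),
        Finset.sum_congr rfl (fun c hc => hlev c (Finset.mem_erase.1 hc).1), Finset.sum_const,
        Finset.card_erase_of_mem (Finset.mem_univ _), Finset.card_univ, smul_eq_mul] at h
      exact h
    set q := Fintype.card F
    have hq2 : 2 ≤ q := Fintype.one_lt_card
    have hz2 : zcard N + q ^ l = q ^ (2 * l + 1) + q ^ k := h1
    rw [hQ] at hdvd hq1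
    have hqk : q ^ k = q ^ l * q := by rw [hk, pow_succ]
    have hq2k : q ^ (2 * k) = q ^ (2 * l + 1) * q := by rw [hk, ← pow_succ]; ring_nf
    have hl : q ^ (2 * l + 1) = q ^ l * q ^ k := by rw [hk, ← pow_add]; ring_nf
    -- the level one set has `q ^ l * (q ^ k - 1)` points
    have hMval : M + q ^ l = q ^ l * q ^ k := by
      obtain ⟨d, hd⟩ := Nat.exists_eq_add_of_le (show 1 ≤ q by omega)
      rw [hq2k, hl, show q - 1 = d by omega] at htot
      rw [hl] at hz2
      refine Nat.eq_of_mul_eq_mul_left (show 0 < d by omega) ?_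
      rw [hqk] at htot hz2 ⊢
      rw [hd] at htot hz2 ⊢
      nlinarith
    have hco : Nat.Coprime (q ^ k + 1) (q ^ l) := by
      have h0 : Nat.Coprime (q ^ k + 1) (q ^ k) := by simp
      exact Nat.Coprime.coprime_dvd_right (pow_dvd_pow _ (by omega)) h0
    have hM2 : M = q ^ l * (q ^ k - 1) := by rw [Nat.mul_sub, mul_one]; omega
    have := Nat.le_of_dvd (by omega) (hco.dvd_of_dvd_mul_left (hM2 ▸ hdvd))
    omega
  · exact hhas.iso (hminus a b hab).symm

end Cfsg.Agent.Spectrum.SpEight
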